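import Cfsg.Agent.H50.Ux.Stmts
import Cfsg.Agent.H59.Bs.SpMinus
import Cfsg.Agent.H181.Bs.Sp

/-!
# S5716, UT2, task Ya1: irreducible elements with a large primitive part in symplectic groups (helper183)
-/

set_option autoImplicit false

namespace Cfsg.Agent.H183.Ux

open Module Cfsg.Agent.H847.Bs Cfsg.Agent.H59.Bs Cfsg.Agent.H50.Ux
open Cfsg.Agent.H141.Ux (Pp)
open scoped IntermediateField

/-- a unit whose order is divisible by a primitive part generates the field -/
theorem gen_of_ord {F L : Type*} [Field F] [Field L] [Algebra F L] [Finite L] {p f e k : ℕ} (hF : Nat.card F = p ^ f)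
    (hf : 1 ≤ f) (he : finrank F L = e) (hk : k ≠ 1)
    (hr : ∀ r : ℕ, r.Prime → r ∣ k → orderOf ((p : ℕ) : ZMod r) = e * f) {t : Lˣ} (ht : k ∣ orderOf t) :
    F⟮(t : L)⟯ = ⊤ := by
  have hF' : Finite F := Finite.of_injective _ (algebraMap F L).injective
  have hfd : FiniteDimensional F L := Module.Finite.of_finite
  set d := finrank F F⟮(t : L)⟯ with hd
  have hd0 : 0 < d := Module.finrank_pos
  have hmul : d * finrank F⟮(t : L)⟯ L = finrank F L := Module.finrank_mul_finrank _ _ _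
  have h1 : t ^ (p ^ (f * d) - 1) = 1 := by
    have h2 := pow_card_of_mem (IntermediateField.mem_adjoin_simple_self F (t : L))
    rw [Module.natCard_eq_pow_finrank (K := F), hF, ← pow_mul] at h2
    have hpos : 0 < p ^ (f * d) := by
      rw [pow_mul, ← hF]
      exact pow_pos Nat.card_pos _
    apply Units.ext
    rw [Units.val_pow_eq_pow_val, Units.val_one]
    have h3 : (t : L) ^ (p ^ (f * d)) = t ^ (p ^ (f * d) - 1) * t := by
      rw [← pow_succ, Nat.sub_add_cancel hpos]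
    have h4 : (t : L) ^ (p ^ (f * d)) = t := h2
    rw [h3] at h4
    exact mul_right_cancel₀ t.ne_zero (by rw [h4, one_mul])
  obtain ⟨r, hrp, hrk⟩ := Nat.exists_prime_and_dvd hk
  have h5 : r ∣ p ^ (f * d) - 1 := (hrk.trans ht).trans (orderOf_dvd_of_pow_eq_one h1)
  have hpos : 0 < p ^ (f * d) := by
    rw [pow_mul, ← hF]
    exact pow_pos Nat.card_pos _
  have h6 : ((p : ℕ) : ZMod r) ^ (f * d) = 1 := by
    have h7 : (((p ^ (f * d) - 1 : ℕ)) : ZMod r) = 0 := (ZMod.natCast_eq_zero_iff _ _).2 h5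
    rw [Nat.cast_sub hpos, Nat.cast_pow, Nat.cast_one] at h7
    exact sub_eq_zero.1 h7
  have h7 := orderOf_dvd_of_pow_eq_one h6
  rw [hr r hrp hrk, mul_comm f d] at h7
  have h8 : e ∣ d := Nat.dvd_of_mul_dvd_mul_right hf h7
  have h9 : finrank F L ≤ finrank F F⟮(t : L)⟯ := by
    rw [he]
    exact Nat.le_of_dvd hd0 h8
  apply IntermediateField.eq_of_le_of_finrank_eq le_top
  rw [IntermediateField.finrank_top']
  exact le_antisymm (by rw [← hmul]; exact Nat.le_mul_of_pos_right _ Module.finrank_pos) h9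

theorem orderOf_mulE {F L : Type*} [Field F] [Field L] [Algebra F L] [Finite L] (t : Lˣ) :
    orderOf (mulE F t) = orderOf t := by
  let φ : Lˣ →* (L ≃ₗ[F] L) :=
    { toFun := mulE F
      map_one' := by
        apply LinearEquiv.ext
        intro x
        change ((1 : Lˣ) : L) * x = x
        simp
      map_mul' := by
        intro a b
        apply LinearEquiv.ext
        intro x
        change ((a * b : Lˣ) : L) * x = a * (b * x)
        simp [mul_assoc] }
  exact orderOf_injective φ mulE_injective t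

theorem orderOf_cj {F V V' : Type*} [Field F] [AddCommGroup V] [Module F V] [AddCommGroup V'] [Module F V']
    (e : V ≃ₗ[F] V') (x : V ≃ₗ[F] V) : orderOf (cj e x) = orderOf x := by
  let φ : (V ≃ₗ[F] V) →* (V' ≃ₗ[F] V') :=
    { toFun := cj e
      map_one' := by
        ext x
        simp [cj]
      map_mul' := by
        intro a b
        ext x
        simp [cj] }
  exact orderOf_injective φ (cj_injective e) x

theorem PI_cj {F V V' : Type} [Field F] [AddCommGroup V] [Module F V] [AddCommGroup V'] [Module F V']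
    (e : V ≃ₗ[F] V') {x : V ≃ₗ[F] V} {d : ℕ} (h : x ∈ PI F V d) : cj e x ∈ PI F V' d := by
  obtain ⟨h1, k, h2, h3⟩ := h
  refine ⟨?_, k, h2, by rwa [orderOf_cj]⟩
  have h4 := Irr_cj (e := e) h1
  rwa [Submodule.map_top, LinearMap.range_eq_top.2 e.surjective] at h4

/-- the elements of the torus of order `q ^ j + 1` give at least `|G| / (4 e)` good elements, if the intersection of the group with
the torus is right -/
theorem count_PI {F L : Type} [Field F] [Field L] [Algebra F L] [Finite L] (h0 : Ya0) {p f e c : ℕ} (hp : p.Prime)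
    (hf : 1 ≤ f) (hF : Nat.card F = p ^ f) (hchar : ringChar F = p) (he : finrank F L = e) (he2 : 3 ≤ e)
    (hbig : 64 * (e * f) * (2 * e + 2) ^ 2 * e ≤ p ^ (e * f).totient) (hc : c ∣ (p ^ f) ^ e - 1) (hc0 : 0 < c)
    (hcr : ∀ r : ℕ, r.Prime → orderOf ((p : ℕ) : ZMod r) = e * f → ¬ r ∣ ((p ^ f) ^ e - 1) / c)
    (G : Subgroup (L ≃ₗ[F] L)) (hG : ∀ t : Lˣ, mulE F t ∈ G ↔ t ^ c = 1) :
    Nat.card G ≤ 4 * e * Nat.card {m : L ≃ₗ[F] L // m ∈ G ∧ m ∈ PI F L e} := by
  classical
  have hF' : Finite F := Finite.of_injective _ (algebraMap F L).injective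
  have hfd : FiniteDimensional F L := Module.Finite.of_finite
  have hfe : Finite (L ≃ₗ[F] L) := Finite.of_injective _ DFunLike.coe_injective
  have hL : Nat.card L = (p ^ f) ^ e := by
    rw [Module.natCard_eq_pow_finrank (K := F), he, hF]
  have hcard := h0 L p f e c hp hf he2 hL hbig hc hcr
  let T : Set Lˣ := {t | t ^ c = 1}
  let S : Set Lˣ := {t | t ^ c = 1 ∧ ∃ k, 2 * e + 1 < k ∧ k ∣ (p ^ f) ^ e - 1 ∧
    (∀ r : ℕ, r.Prime → r ∣ k → orderOf ((p : ℕ) : ZMod r) = e * f) ∧ k ∣ orderOf t}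
  have hgen : ∀ t ∈ S, F⟮(t : L)⟯ = ⊤ := by
    rintro t ⟨-, k, hk1, -, hk3, hk4⟩
    exact gen_of_ord hF hf he (by omega) hk3 hk4
  let E : Set (L ≃ₗ[F] L) := (mulE F) '' S
  let B : Set (L ≃ₗ[F] L) := {m | m ∈ G ∧ m ∈ PI F L e}
  have hES : Nat.card E = Nat.card S := Nat.card_image_of_injective mulE_injective S
  have key := card_pairs G E B (e * Nat.card T) (by
      rintro _ ⟨t, ht, rfl⟩
      have h1 := card_conj_le G T (fun c hc => (hG c).1 hc) (hgen t ht) E
        (by rintro _ ⟨u, _, rfl⟩; exact ⟨u, rfl⟩)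
      rwa [he] at h1) (by
      rintro g hg _ ⟨t, ht, rfl⟩
      have hPI : mulE F t ∈ PI F L e := by
        obtain ⟨-, k, hk1, hk2, hk3, hk4⟩ := ht
        refine ⟨irr_mulE (gen_of_ord hF hf he (by omega) hk3 hk4), k, ⟨hk1, by rwa [hF], ?_⟩, by rwa [orderOf_mulE]⟩
        intro r hr hrk f' hf'
        rw [hchar] at hf' ⊢
        have : f' = f := by
          rw [hF] at hf'
          exact (Nat.pow_right_injective hp.two_le hf').symm
        rw [this]
        exact hk3 r hr hrk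
      refine ⟨G.mul_mem (G.mul_mem hg ((hG t).2 ht.1)) (G.inv_mem hg), ?_⟩
      exact PI_cj g hPI)
  rw [hES] at key
  have hT : Nat.card T ≤ c := card_pow_le c hc0
  have hS : 3 * c ≤ 4 * Nat.card S := hcard
  -- `3 |G| c ≤ 4 |G| |S| ≤ 4 |B| e |T| ≤ 4 |B| e c`
  have h1 : (Nat.card G) * c ≤ (4 * e * Nat.card B) * c := by
    calc Nat.card G * c ≤ Nat.card G * (3 * c) := by
          apply Nat.mul_le_mul_left
          omega
      _ ≤ Nat.card G * (4 * Nat.card S) := Nat.mul_le_mul_left _ hS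
      _ = 4 * (Nat.card G * Nat.card S) := by ring
      _ ≤ 4 * (Nat.card B * (e * Nat.card T)) := Nat.mul_le_mul_left _ key
      _ ≤ 4 * (Nat.card B * (e * c)) := by gcongr
      _ = _ := by ring
  exact Nat.le_of_mul_le_mul_right h1 hc0

/-- no primitive prime divides `q ^ j - 1`, `e = 2 j` -/
theorem not_dvd_half {p f j r : ℕ} (hp : p.Prime) (hf : 1 ≤ f) (hj : 1 ≤ j)
    (hr : orderOf ((p : ℕ) : ZMod r) = 2 * j * f) : ¬ r ∣ (p ^ f) ^ j - 1 := by
  intro h
  have hpos : 0 < (p ^ f) ^ j := pow_pos (pow_pos hp.pos _) _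
  have h6 : ((p : ℕ) : ZMod r) ^ (f * j) = 1 := by
    have h7 : ((((p ^ f) ^ j - 1 : ℕ)) : ZMod r) = 0 := (ZMod.natCast_eq_zero_iff _ _).2 h
    rw [Nat.cast_sub hpos, ← pow_mul, Nat.cast_pow, Nat.cast_one] at h7
    exact sub_eq_zero.1 h7
  have h7 := orderOf_dvd_of_pow_eq_one h6
  rw [hr] at h7
  have h8 := Nat.le_of_dvd (Nat.mul_pos hf hj) h7
  have h9 : 0 < f * j := Nat.mul_pos hf hj
  have h10 : 2 * j * f = 2 * (f * j) := by ring
  omega

/-- **Ya1** -/
theorem ya1 (h0 : Ya0) : Ya1 := by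
  intro F V _ _ _ _ _ Φ p f e hΦ hev hp hF he20 hdim hbig
  obtain ⟨j, hj'⟩ := hev
  have hj : e = 2 * j := by omega
  subst hj
  have hf : 1 ≤ f := by
    by_contra h
    have : f = 0 := by omega
    rw [this, pow_zero] at hF
    have : 1 < Nat.card F := Finite.one_lt_card
    omega
  have hpp : Fact p.Prime := ⟨hp⟩
  have hchar : ringChar F = p := by
    have := Fintype.ofFinite F
    obtain ⟨n, hn1, hn2⟩ := FiniteField.card F (ringChar F)
    rw [← Nat.card_eq_fintype_card, hF] at hn2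
    have h1 : p ∣ ringChar F ^ (n : ℕ) := by
      rw [← hn2]
      exact dvd_pow_self p (by omega)
    exact ((Nat.prime_dvd_prime_iff_eq hp hn1).1 (hp.dvd_of_dvd_pow h1)).symm
  have hcp : CharP F p := by rw [← hchar]; exact ringChar.charP F
  obtain ⟨D, U, hdec, hD⟩ := Cfsg.Agent.H181.Bs.exists_dec hΦ j (by omega)
  have hnd : Φ.NdOn D := Cfsg.Agent.H181.Bs.ndOn_left hΦ.nd hdec
  have hΦD : IsSp (Φ.on D) := Cfsg.Agent.H181.Bs.isSp_on hΦ hnd
  refine ⟨D, hnd, hD, ?_⟩
  -- the field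
  have hnz : NeZero (2 * j) := ⟨by omega⟩
  let L := FiniteField.Extension F p (2 * j)
  let τ : L ≃ₐ[F] L := FiniteField.Extension.frob F p (2 * j) ^ j
  have hLf : finrank F L = 2 * j := FiniteField.finrank_extension F p (2 * j)
  have hLc : Nat.card L = Nat.card F ^ (2 * j) := FiniteField.natCard_extension F p (2 * j)
  have hτq : ∀ x, τ x = x ^ Nat.card F ^ j := fun x => FiniteField.Extension.frob_iterate_apply F p (2 * j) j
  have hττ : ∀ x, τ (τ x) = x := by
    intro x
    have := Fintype.ofFinite L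
    rw [hτq, hτq, ← pow_mul, ← pow_add, ← two_mul, ← hLc, Nat.card_eq_fintype_card]
    exact FiniteField.pow_card x
  have hq2 : 2 ≤ Nat.card F := Finite.one_lt_card
  obtain ⟨b, hb⟩ : ∃ b, τ b ≠ b := by
    by_contra hno
    push Not at hno
    have h1 : ∀ x : Lˣ, x ^ (Nat.card F ^ j - 1) = 1 := by
      intro x
      have h2 := hno x
      rw [hτq] at h2
      apply Units.ext
      rw [Units.val_pow_eq_pow_val, Units.val_one]
      have h3 : (x : L) ^ Nat.card F ^ j = x ^ (Nat.card F ^ j - 1) * x := by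
        rw [← pow_succ, Nat.sub_add_cancel (Nat.one_le_pow _ _ (by omega))]
      rw [h3] at h2
      exact mul_right_cancel₀ x.ne_zero (by rw [h2, one_mul])
    have h4 := card_pow_le (L := L) (Nat.card F ^ j - 1) (by
      have := Nat.one_lt_pow (n := j) (by omega) hq2
      omega)
    have h5 : Nat.card {t : Lˣ // t ^ (Nat.card F ^ j - 1) = 1} = Nat.card Lˣ :=
      Nat.card_congr (Equiv.subtypeUnivEquiv h1)
    rw [h5, Nat.card_units, hLc] at h4
    have h6 : Nat.card F ^ j < Nat.card F ^ (2 * j) := Nat.pow_lt_pow_right hq2 (by omega)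
    have h7 := Nat.one_le_pow j (Nat.card F) (by omega)
    omega
  have hsp : IsSp (frmL τ hττ b) := isSp_frmL hb
  have hfd : FiniteDimensional F L := Module.Finite.of_finite
  have hV : Finite V := Module.finite_of_finite F
  have hprod : ((p ^ f) ^ j - 1) * ((p ^ f) ^ j + 1) = (p ^ f) ^ (2 * j) - 1 := by
    have h1 : 1 ≤ (p ^ f) ^ j := Nat.one_le_pow _ _ (pow_pos hp.pos _)
    obtain ⟨m, hm⟩ : ∃ m, (p ^ f) ^ j = m + 1 := ⟨(p ^ f) ^ j - 1, by omega⟩
    rw [mul_comm 2 j, pow_mul, hm, Nat.add_sub_cancel]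
    apply Nat.eq_sub_of_add_eq
    ring
  have hdiv : ((p ^ f) ^ (2 * j) - 1) / ((p ^ f) ^ j + 1) = (p ^ f) ^ j - 1 := by
    rw [← hprod]
    exact Nat.mul_div_cancel _ (Nat.succ_pos _)
  have hcount := count_PI (L := L) h0 (c := (p ^ f) ^ j + 1) hp hf hF hchar hLf (by omega) hbig
    (by rw [← hprod]; exact Dvd.intro_left _ rfl) (Nat.succ_pos _) (by
      intro r hr hord
      rw [hdiv]
      exact not_dvd_half hp hf (by omega) hord) (frmL τ hττ b).Iso (by
      intro t
      have hTeq : t ^ ((p ^ f) ^ j + 1) = 1 ↔ (t : L) * τ t = 1 := by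
        rw [hτq, ← pow_succ', ← Units.val_inj, hF]
        simp
      rw [hTeq]
      exact ⟨of_mulE_mem hb, mulE_mem t⟩)
  -- transport
  obtain ⟨g, hg, hgq⟩ := exists_equiv hΦD hsp (hD.trans hLf.symm)
  obtain ⟨hg', hgq'⟩ := symm_isom hg hgq
  have h2 : Nat.card (Φ.on D).Iso ≤ Nat.card (frmL τ hττ b).Iso := card_Iso_le hg hgq
  have h3 : Nat.card {m : L ≃ₗ[F] L // m ∈ (frmL τ hττ b).Iso ∧ m ∈ PI F L (2 * j)} ≤
      Nat.card {m : D ≃ₗ[F] D // m ∈ (Φ.on D).Iso ∧ m ∈ PI F D (2 * j)} := by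
    have hfe : Finite (D ≃ₗ[F] D) := Finite.of_injective _ DFunLike.coe_injective
    exact Nat.card_le_card_of_injective (fun x => (⟨cj g.symm x.1, Iso_cj hg' hgq' x.2.1, PI_cj g.symm x.2.2⟩ :
        {m : D ≃ₗ[F] D // m ∈ (Φ.on D).Iso ∧ m ∈ PI F D (2 * j)}))
      fun _ _ h => Subtype.ext (cj_injective g.symm (congrArg Subtype.val h))
  exact h2.trans (hcount.trans (Nat.mul_le_mul_left _ h3))

end Cfsg.Agent.H183.Ux
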